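import Cfsg.Agent.H610.ChevRegular
import Cfsg.Agent.ChevalleyStructure.NConjSharp
import Cfsg.Agent.ChevalleyStructure.CorootGcd
import Cfsg.Prelude.Def_ChevE8
import Cfsg.Prelude.Def_ChevStructure
import Cfsg.Agent.S1034
import Cfsg.Agent.ChevFast.E8
import Cfsg.Agent.ChevFast.Lin
import Cfsg.Agent.Lib.ListFast
import Cfsg.Agent.Prune
set_option linter.all false

-- part: H239/E8P/Act
section
set_option linter.all false
open scoped Cfsg.Agent.FastGrp

-- part: H239/E8P/Mono
section
/-!
# S5925, box F (P7): the monomial subgroup on the root vectors (helper239)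

Every `n ∈ N` maps the line of `e_r` onto the line of `e_{π r}`: `n e_r = c_r e_{π r}`, `n h_r = h_{π r}`,
`n x_r(t) n⁻¹ = x_{π r}(c_r t)` with the same `c_r`.
-/

set_option autoImplicit false
set_option linter.unusedSectionVars false

namespace Cfsg.Agent.H239.E8P

open Cfsg.Lie Cfsg.Agent.ChevalleyStructure Cfsg.Agent.ChevalleyStructure.Elts
  Cfsg.Agent.ChevalleyStructure.NConj Cfsg.Agent.ChevalleyStructure.XColumns Cfsg.Agent.ChevalleyStructure.NSimple
open Cfsg.Agent.H610.ChevRegular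
open scoped Matrix

universe u

variable {D : ChevalleyDatum} {F : Type u} [Field F]

/-- `g` permutes the lines of the root vectors -/
structure Mono (hD : InList D) (g : GL D.Idx F) (π : ℕ → ℕ) (c : ℕ → F) : Prop where
  lt : ∀ r < D.nroots, π r < D.nroots
  ne : ∀ r < D.nroots, c r ≠ 0
  neg : ∀ r < D.nroots, π (D.neg r) = D.neg (π r)
  evm : ∀ r < D.nroots, (g : Matrix D.Idx D.Idx F) *ᵥ ev D F r = c r • ev D F (π r)
  corvm : ∀ r < D.nroots, (g : Matrix D.Idx D.Idx F) *ᵥ corv D F r = corv D F (π r)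
  conj : ∀ r < D.nroots, ∀ t : F, g * xG hD r t = xG hD (π r) (c r * t) * g

theorem ev_inj {r s : ℕ} (hr : r < D.nroots) {a b : F} (ha : a ≠ 0) (h : a • ev D F r = b • ev D F s) : r = s := by
  have h1 := congrFun h (Sum.inr ⟨r, hr⟩)
  rw [Pi.smul_apply, Pi.smul_apply, ev_inr, ev_inr, if_pos rfl, smul_eq_mul, smul_eq_mul, mul_one] at h1
  by_contra hne
  rw [if_neg hne, mul_zero] at h1
  exact ha h1

namespace Mono

variable {hD : InList D} {g g' : GL D.Idx F} {π π' : ℕ → ℕ} {c c' : ℕ → F}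

theorem mul (h : Mono hD g π c) (h' : Mono hD g' π' c') :
    Mono hD (g * g') (fun r => π (π' r)) (fun r => c (π' r) * c' r) where
  lt r hr := h.lt _ (h'.lt r hr)
  ne r hr := mul_ne_zero (h.ne _ (h'.lt r hr)) (h'.ne r hr)
  neg r hr := by
    show π (π' (D.neg r)) = D.neg (π (π' r))
    rw [h'.neg r hr, h.neg _ (h'.lt r hr)]
  evm r hr := by
    rw [Units.val_mul, ← Matrix.mulVec_mulVec, h'.evm r hr, Matrix.mulVec_smul, h.evm _ (h'.lt r hr), smul_smul,
      mul_comm (c' r)]
  corvm r hr := by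
    rw [Units.val_mul, ← Matrix.mulVec_mulVec, h'.corvm r hr, h.corvm _ (h'.lt r hr)]
  conj r hr t := by
    rw [mul_assoc, h'.conj r hr, ← mul_assoc, h.conj _ (h'.lt r hr), mul_assoc, mul_assoc (c (π' r))]

theorem inj (h : Mono hD g π c) {r s : ℕ} (hr : r < D.nroots) (hs : s < D.nroots) (he : π r = π s) : r = s := by
  have h1 : (g : Matrix D.Idx D.Idx F) *ᵥ (c s • ev D F r) = (g : Matrix D.Idx D.Idx F) *ᵥ (c r • ev D F s) := by
    rw [Matrix.mulVec_smul, Matrix.mulVec_smul, h.evm r hr, h.evm s hs, smul_smul, smul_smul, he, mul_comm]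
  have h2 : c s • ev D F r = c r • ev D F s := by
    have h3 := congrArg (fun v => ((g⁻¹ : GL D.Idx F) : Matrix D.Idx D.Idx F) *ᵥ v) h1
    simp only [Matrix.mulVec_mulVec] at h3
    rw [← Units.val_mul, inv_mul_cancel, Units.val_one, Matrix.one_mulVec, Matrix.one_mulVec] at h3
    exact h3
  exact ev_inj hr (h.ne s hs) h2

theorem surj (h : Mono hD g π c) {r : ℕ} (hr : r < D.nroots) : ∃ s < D.nroots, π s = r := by
  let f : Fin D.nroots → Fin D.nroots := fun s => ⟨π s, h.lt s s.2⟩
  have hf : Function.Injective f := by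
    intro a b hab
    exact Fin.ext (h.inj a.2 b.2 (congrArg Fin.val hab))
  obtain ⟨s, hs⟩ := (Finite.surjective_of_injective hf) ⟨r, hr⟩
  exact ⟨s, s.2, congrArg Fin.val hs⟩

theorem inv (h : Mono hD g π c) : ∃ π' c', Mono hD g⁻¹ π' c' := by
  classical
  have hneg : ∀ r < D.nroots, D.neg r < D.nroots := fun r hr => Reach.neg_lt hD hr
  refine ⟨fun r => if hr : r < D.nroots then (h.surj hr).choose else r,
    fun r => if hr : r < D.nroots then (c (h.surj hr).choose)⁻¹ else 1, ?_⟩
  have key : ∀ r (hr : r < D.nroots), (h.surj hr).choose < D.nroots ∧ π (h.surj hr).choose = r :=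
    fun r hr => (h.surj hr).choose_spec
  refine ⟨fun r hr => ?_, fun r hr => ?_, fun r hr => ?_, fun r hr => ?_, fun r hr => ?_, fun r hr t => ?_⟩
  · rw [dif_pos hr]
    exact (key r hr).1
  · rw [dif_pos hr]
    exact inv_ne_zero (h.ne _ (key r hr).1)
  · rw [dif_pos hr, dif_pos (hneg r hr)]
    refine h.inj (key _ (hneg r hr)).1 (hneg _ (key r hr).1) ?_
    rw [(key _ (hneg r hr)).2, h.neg _ (key r hr).1, (key r hr).2]
  · rw [dif_pos hr, dif_pos hr]
    obtain ⟨k1, k2⟩ := key r hr
    have h1 := h.evm _ k1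
    rw [k2] at h1
    have h3 := congrArg (fun v => ((g⁻¹ : GL D.Idx F) : Matrix D.Idx D.Idx F) *ᵥ v) h1
    simp only [Matrix.mulVec_mulVec, Matrix.mulVec_smul] at h3
    rw [← Units.val_mul, inv_mul_cancel, Units.val_one, Matrix.one_mulVec] at h3
    rw [h3, smul_smul, inv_mul_cancel₀ (h.ne _ k1), one_smul]
  · rw [dif_pos hr]
    obtain ⟨k1, k2⟩ := key r hr
    have h1 := h.corvm _ k1
    rw [k2] at h1
    have h3 := congrArg (fun v => ((g⁻¹ : GL D.Idx F) : Matrix D.Idx D.Idx F) *ᵥ v) h1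
    simp only [Matrix.mulVec_mulVec] at h3
    rw [← Units.val_mul, inv_mul_cancel, Units.val_one, Matrix.one_mulVec] at h3
    exact h3.symm
  · rw [dif_pos hr, dif_pos hr]
    obtain ⟨k1, k2⟩ := key r hr
    have h1 := h.conj _ k1 ((c (h.surj hr).choose)⁻¹ * t)
    rw [k2, ← mul_assoc, mul_inv_cancel₀ (h.ne _ k1), one_mul] at h1
    rw [inv_mul_eq_iff_eq_mul, ← mul_assoc, h1, mul_inv_cancel_right]

end Mono

theorem mono_diag (hD : InList D) {h : GL D.Idx F} {χ : ℕ → F} (hh : Chi hD h χ) :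
    Mono hD h (fun r => r) χ where
  lt r hr := hr
  ne r _ := hh.ne r
  neg _ _ := rfl
  evm r hr := by
    funext a
    rw [hh.mat, Matrix.mulVec_diagonal, Pi.smul_apply, smul_eq_mul]
    rcases a with i | v
    · rw [ev_inl, mul_zero, mul_zero]
    · rw [ev_inr, Sum.elim_inr]
      by_cases hv : v.val = r
      · rw [if_pos hv, hv]
      · rw [if_neg hv, mul_zero, mul_zero]
  corvm r hr := by
    funext a
    rw [hh.mat, Matrix.mulVec_diagonal]
    rcases a with i | v
    · rw [Sum.elim_inl, one_mul]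
    · rw [corv_inr, mul_zero]
  conj r hr t := by
    rw [← hh.conj r hr t, inv_mul_cancel_right]

theorem mono_nS (hD : InList D) {i : ℕ} (hi : i < D.rank) :
    Mono hD (nS hD F i) (D.reflectRoot i) (fun r => ((eta D i r : ℤ) : F)) := by
  have h := NSimpleAll.facts hD hi
  have G := RootComb.good_of_mem hD
  have hmat : ((nS hD F i : GL D.Idx F) : Matrix D.Idx D.Idx F) = D.nMat F (D.simple i) 1 := coe_nG hD (D.simple i) 1
  have hev : ∀ r < D.nroots, ((nS hD F i : GL D.Idx F) : Matrix D.Idx D.Idx F) *ᵥ ev D F r =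
      ((eta D i r : ℤ) : F) • ev D F (D.reflectRoot i r) := by
    intro r hr
    rw [hmat]
    exact NConjSharp.N_ev h hr
  have hcorv : ∀ r < D.nroots, ((nS hD F i : GL D.Idx F) : Matrix D.Idx D.Idx F) *ᵥ corv D F r =
      corv D F (D.reflectRoot i r) := by
    intro r hr
    rw [hmat]
    exact NConjSharp.N_corv h G hi hr
  have e2 : ∀ q < D.nroots, ((eta D i q : ℤ) : F) * ((eta D i q : ℤ) : F) = 1 := by
    intro q hq
    rcases h.eta_one q hq with h1 | h1 <;> rw [h1] <;> simp
  refine ⟨fun r hr => h.reflect_lt r hr, fun r hr h0 => ?_, fun r hr => G.reflect_neg hi hr, hev, hcorv,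
    fun r hr t => ?_⟩
  · have := e2 r hr
    rw [h0, mul_zero] at this
    exact zero_ne_one this
  · obtain ⟨η, hη, h1, -⟩ := conj_x (F := F) hD hi hr
    have hng : D.neg r < D.nroots := Reach.neg_lt hD hr
    have hne : D.neg r ≠ r := (Good.goodAt_of_mem D hD r hr).neg_ne
    have hw := h.reflect_lt r hr
    have hngw : D.neg (D.reflectRoot i r) < D.nroots := Reach.neg_lt hD hw
    have hnew : D.neg (D.reflectRoot i r) ≠ D.reflectRoot i r := (Good.goodAt_of_mem D hD _ hw).neg_ne
    -- compare on `e_{-r}` for `t = 1`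
    have k1 : ((nS hD F i * xG hD r (1 : F) : GL D.Idx F) : Matrix D.Idx D.Idx F) *ᵥ ev D F (D.neg r) =
        ((xG hD (D.reflectRoot i r) (η * 1) * nS hD F i : GL D.Idx F) : Matrix D.Idx D.Idx F) *ᵥ ev D F (D.neg r) := by
      rw [← h1 1, inv_mul_cancel_right]
    rw [Units.val_mul, Units.val_mul, ← Matrix.mulVec_mulVec, ← Matrix.mulVec_mulVec, coe_xG, coe_xG,
      x_mulVec_ev_neg hr hng hne, hev _ hng, Matrix.mulVec_smul, G.reflect_neg hi hr,
      x_mulVec_ev_neg hw hngw hnew, Matrix.mulVec_sub, Matrix.mulVec_add, Matrix.mulVec_smul, Matrix.mulVec_smul,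
      hcorv r hr, hev r hr, hev _ hng, G.reflect_neg hi hr] at k1
    obtain ⟨j, hj⟩ := CorootGcd.exists_coroot_ne_zero (F := F) hD hw
    have k2 := congrFun k1 (Sum.inl j)
    simp only [Pi.sub_apply, Pi.add_apply, Pi.smul_apply, ev_inl, corv_inl, smul_eq_mul, mul_zero, sub_zero, zero_add,
      one_mul, mul_one] at k2
    have k3 : ((eta D i (D.neg r) : ℤ) : F) * η = 1 := by
      have : (((eta D i (D.neg r) : ℤ) : F) * η - 1) *
          (((D.coroot.getD (D.reflectRoot i r) #[]).getD j.val 0 : ℤ) : F) = 0 := by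
        rw [sub_mul, one_mul, mul_assoc, ← k2, sub_self]
      rcases mul_eq_zero.1 this with h3 | h3
      · exact sub_eq_zero.1 h3
      · exact absurd h3 hj
    have k4 : ((eta D i (D.neg r) : ℤ) : F) * ((eta D i r : ℤ) : F) = 1 := by
      rw [mul_comm, ← Int.cast_mul, h.eta_mul_neg r hr, Int.cast_one]
    have k5 : η = ((eta D i r : ℤ) : F) := by
      have h0 : ((eta D i (D.neg r) : ℤ) : F) ≠ 0 := left_ne_zero_of_mul_eq_one k3
      exact mul_left_cancel₀ h0 (k3.trans k4.symm)
    rw [← k5, ← h1 t, inv_mul_cancel_right]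

end Cfsg.Agent.H239.E8P
end

-- part: H239/E8P/Tab
section
/-!
# S5925, box F (P7): tables (helper239)

The torus element `h` with the values `w ^ (4, 4, 4, 4, 1, 4, 4, 4)` on the simple roots kills the 40 roots of `W₀` and
`W₁` (two components of type `A₄`); `RT c i j` is the index of the root `e_i - e_j` of the `c`-th component and `SG c i j`
its sign (`tools/plans/S5925_code/frame.txt`).
-/

set_option autoImplicit false
set_option maxRecDepth 100000

namespace Cfsg.Agent.H239.E8P

open Cfsg.Lie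

def RTl : List (List (List ℕ)) :=
  [[[240, 31, 6, 64, 24], [208, 240, 60, 151, 108], [233, 179, 240, 212, 172], [175, 88, 27, 240, 81], [215,
  131, 67, 158, 240]], [[240, 7, 20, 51, 55], [232, 240, 168, 199, 203], [219, 71, 240, 154, 159], [188, 40, 85,
  240, 127], [184, 36, 80, 112, 240]]]

def SGl : List (List (List ℤ)) :=
  [[[1, 1, 1, -1, 1], [1, 1, 1, -1, -1], [1, 1, 1, 1, 1], [-1, -1, 1, 1, 1], [1, -1, 1, 1, 1]], [[1, 1, -1, -1,
  1], [1, 1, 1, -1, 1], [-1, 1, 1, 1, -1], [-1, -1, 1, 1, 1], [1, 1, -1, 1, 1]]]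

/-- the index of the root `e_i - e_j` of the component `c` -/
def RT (c : Fin 2) (i j : Fin 5) : ℕ := ((RTl.getD c.val []).getD i.val []).getD j.val 240

/-- the sign of the root vector `E_ij` of the component `c` -/
def SG (c : Fin 2) (i j : Fin 5) : ℤ := ((SGl.getD c.val []).getD i.val []).getD j.val 1

/-- the expected chain entry -/
def tgt (c : Fin 2) (i j : Fin 5) (c' : Fin 2) (i' j' : Fin 5) : List (ℕ × ℤ) :=
  if c = c' ∧ j = i' ∧ i ≠ j' then [(RT c i j', SG c i j' * (SG c i j * SG c' i' j'))]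
  else if c = c' ∧ i = j' ∧ j ≠ i' then [(RT c i' j, -(SG c i' j * (SG c i j * SG c' i' j')))]
  else []

theorem chain_tab : ∀ (c : Fin 2) (i j : Fin 5), i ≠ j → ∀ (c' : Fin 2) (i' j' : Fin 5), i' ≠ j' →
    chevE8.chainEntry (RT c i j) (RT c' i' j') = tgt c i j c' i' j' := by
  (rewrite [Cfsg.Agent.ChevFast.E8.chainEntry]; open scoped Cfsg.Agent.ChevFast.Lin in decide +kernel)

theorem RT_lt : ∀ (c : Fin 2) (i j : Fin 5), i ≠ j → RT c i j < 240 := by decide +kernel

theorem RT_neg : ∀ (c : Fin 2) (i j : Fin 5), i ≠ j → chevE8.neg (RT c i j) = RT c j i := by (rewrite [Cfsg.Agent.ChevFast.E8.neg]; open scoped Cfsg.Agent.ChevFast.Lin in decide +kernel)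

theorem RT_inj : ∀ (c : Fin 2) (i j : Fin 5), i ≠ j → ∀ (c' : Fin 2) (i' j' : Fin 5), i' ≠ j' →
    RT c i j = RT c' i' j' → c = c' ∧ i = i' ∧ j = j' := by (open scoped Cfsg.Agent.ChevFast.Lin in decide +kernel)

theorem SG_one : ∀ (c : Fin 2) (i j : Fin 5), SG c i j = 1 ∨ SG c i j = -1 := by decide +kernel

theorem SG_symm : ∀ (c : Fin 2) (i j : Fin 5), SG c j i = SG c i j := by decide +kernel

/-- coefficient of the coroot on the fundamental coroots -/
def cof (r j : ℕ) : ℤ := (chevE8.coroot.getD r #[]).getD j 0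

/-- the pairing of coroots and roots -/
def pair (r s : ℕ) : ℤ := ((List.range 8).map fun m => cof r m * chevE8.cartan m s).sum

private noncomputable def _root_.Cfsg.Agent.LsF.ff87ccb_9 : {f // @Cfsg.Agent.ChevFast.dz = f} := ⟨_, by first | (delta Cfsg.Agent.ChevFast.dz; rewrite [Cfsg.Agent.LsF.cond_eq]; exact rfl) | exact rfl⟩
private noncomputable def _root_.Cfsg.Agent.LsF.ff87ccb_10 : {f // @Cfsg.Agent.ChevFast.gz = f} := ⟨_, by first | (delta Cfsg.Agent.ChevFast.gz; rewrite [Cfsg.Agent.LsF.ff87ccb_9.2]; exact rfl) | exact rfl⟩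
private noncomputable def _root_.Cfsg.Agent.LsF.ff87ccb_5 : {f // @Cfsg.Agent.H239.E8P.RT = f} := ⟨_, by first | (delta Cfsg.Agent.H239.E8P.RT; rewrite [Cfsg.Agent.LsF.getD_eq]; exact rfl) | exact rfl⟩
private noncomputable def _root_.Cfsg.Agent.LsF.ff87ccb_11 : {f // @Fin.succ = f} := ⟨_, by first | (delta Fin.succ; (try delta Fin.succ.match_1); (try delta Fin.casesOn); exact rfl) | exact rfl⟩
private noncomputable def _root_.Cfsg.Agent.LsF.ff87ccb_8 : {f // @Cfsg.Agent.ChevFast.Lin.dG = f} := ⟨_, by first | (delta Cfsg.Agent.ChevFast.Lin.dG; rewrite [Cfsg.Agent.LsF.dIff_eq, Cfsg.Agent.LsF.dBoolEq_eq]; exact rfl) | exact rfl⟩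
theorem pair_tab : ∀ (c : Fin 2) (k : Fin 4) (c' : Fin 2) (i j : Fin 5), i ≠ j →
    pair (RT c k.castSucc k.succ) (RT c' i j) =
      if c = c' then (if k.castSucc = i then 1 else 0) - (if k.castSucc = j then 1 else 0) -
        (if k.succ = i then 1 else 0) + (if k.succ = j then 1 else 0) else 0 := by
  (delta Cfsg.Agent.H239.E8P.cof Cfsg.Agent.H239.E8P.pair; rewrite [Cfsg.Agent.ChevFast.E8.cartan, Cfsg.Agent.ChevFast.E8.coroot]; open scoped Cfsg.Agent.ChevFast.Lin in (refine of_decide_eq_true ?_; (try (rewrite [Cfsg.Agent.LsF.ff87ccb_10.2, Cfsg.Agent.LsF.ff87ccb_5.2, Cfsg.Agent.LsF.ff87ccb_11.2, Cfsg.Agent.LsF.ff87ccb_8.2, Cfsg.Agent.LsF.iadd_pat, Cfsg.Agent.LsF.imul_pat, Cfsg.Agent.LsF.isub_pat, Cfsg.Agent.LsF.cond_eq, Cfsg.Agent.LsF.map_eq, Cfsg.Agent.LsF.range_eq, Cfsg.Agent.LsF.sum_eq, Cfsg.Agent.LsF.agetD_eq, Cfsg.Agent.LsF.instIAdd_eq, Cfsg.Agent.LsF.instIDecEq_eq, Cfsg.Agent.LsF.dNot_eq, Cfsg.Agent.LsF.dFinEq_eq, Cfsg.Agent.LsF.dAllP_eq, Cfsg.Agent.LsF.ite_eq, Cfsg.Agent.LsF.decide_eq]));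 decide +kernel))

private noncomputable def _root_.Cfsg.Agent.LsF.ff87ccb_12 : {f // @Cfsg.Agent.ChevFast.Lin.dB = f} := ⟨_, by first | (delta Cfsg.Agent.ChevFast.Lin.dB; rewrite [Cfsg.Agent.LsF.dIff_eq, Cfsg.Agent.LsF.dBoolEq_eq]; exact rfl) | exact rfl⟩
theorem cof_tab : ∀ (c : Fin 2) (i j : Fin 5), i ≠ j → ∀ m < 8, cof (RT c i j) m =
    ((List.finRange 4).map fun k : Fin 4 => ((if i ≤ k.castSucc then 1 else 0) - (if j ≤ k.castSucc then 1 else 0)) *
      cof (RT c k.castSucc k.succ) m).sum := by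
  (delta Cfsg.Agent.H239.E8P.cof; rewrite [Cfsg.Agent.ChevFast.E8.coroot]; open scoped Cfsg.Agent.ChevFast.Lin in (refine of_decide_eq_true ?_; (try (rewrite [Cfsg.Agent.LsF.ff87ccb_10.2, Cfsg.Agent.LsF.ff87ccb_5.2, Cfsg.Agent.LsF.ff87ccb_11.2, Cfsg.Agent.LsF.ff87ccb_8.2, Cfsg.Agent.LsF.ff87ccb_12.2, Cfsg.Agent.LsF.imul_pat, Cfsg.Agent.LsF.isub_pat, Cfsg.Agent.LsF.cond_eq, Cfsg.Agent.LsF.map_eq, Cfsg.Agent.LsF.sum_eq, Cfsg.Agent.LsF.agetD_eq, Cfsg.Agent.LsF.instIAdd_eq, Cfsg.Agent.LsF.instIDecEq_eq, Cfsg.Agent.LsF.dNot_eq, Cfsg.Agent.LsF.dFinEq_eq, Cfsg.Agent.LsF.dFinLe_eq, Cfsg.Agent.LsF.finRange_eq, Cfsg.Agent.LsF.dAllP_eq, Cfsg.Agent.LsF.ite_eq, Cfsg.Agent.LsF.decide_eq])); decide +kernel))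

/-- the exponents of `h` on the simple roots -/
def yv : List ℤ := [-1, -1, -1, -1, 1, -1, -1, -1]

/-- the exponent of `h` on the root `s` -/
def mv (s : ℕ) : ℤ := ((List.range 8).map fun m => cof s m * yv.getD m 0).sum

private noncomputable def _root_.Cfsg.Agent.LsF.ff87ccb_13 : {f // @Cfsg.Agent.ChevFast.Lin.dY = f} := ⟨_, by first | (delta Cfsg.Agent.ChevFast.Lin.dY; rewrite [Cfsg.Agent.LsF.dIff_eq, Cfsg.Agent.LsF.dBoolEq_eq]; exact rfl) | exact rfl⟩
theorem mem_of_mv : ∀ s < 240, mv s % 5 = 0 → ∃ (c : Fin 2) (i j : Fin 5), i ≠ j ∧ s = RT c i j := by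
  (delta Cfsg.Agent.H239.E8P.cof Cfsg.Agent.H239.E8P.mv; rewrite [Cfsg.Agent.ChevFast.E8.coroot]; open scoped Cfsg.Agent.ChevFast.Lin in (refine of_decide_eq_true ?_; (try (rewrite [Cfsg.Agent.LsF.ff87ccb_10.2, Cfsg.Agent.LsF.ff87ccb_5.2, Cfsg.Agent.LsF.ff87ccb_12.2, Cfsg.Agent.LsF.ff87ccb_13.2, Cfsg.Agent.LsF.imul_pat, Cfsg.Agent.LsF.imod_pat, Cfsg.Agent.LsF.cond_eq, Cfsg.Agent.LsF.instDecEq_eq, Cfsg.Agent.LsF.map_eq, Cfsg.Agent.LsF.range_eq, Cfsg.Agent.LsF.sum_eq, Cfsg.Agent.LsF.getD_eq, Cfsg.Agent.LsF.agetD_eq, Cfsg.Agent.LsF.instIAdd_eq, Cfsg.Agent.LsF.instIDecEq_eq, Cfsg.Agent.LsF.dAnd_eq, Cfsg.Agent.LsF.dNot_eq, Cfsg.Agent.LsF.dFinEq_eq, Cfsg.Agent.LsF.dAllP_eq, Cfsg.Agent.LsF.decide_eq])); decide +kernel))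

/-- the exponent of `SA` -/
def mu (c : Fin 2) : ℤ := if c = 0 then 2 else 1

end Cfsg.Agent.H239.E8P
end

-- part: H239/E8P/Io1
section
/-!
# S5925, box F (P7): root elements of `W₀`, `W₁` on the two copies of `sl₅` (helper239)
-/

set_option autoImplicit false
set_option linter.unusedSectionVars false

namespace Cfsg.Agent.H239.E8P

open Cfsg.Lie Cfsg.Agent.ChevalleyStructure Cfsg.Agent.ChevalleyStructure.Elts
  Cfsg.Agent.ChevalleyStructure.XColumns Cfsg.Agent.ChevalleyStructure.Strings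
open Matrix

universe u

variable {K : Type u} [Field K]

theorem hE : InList chevE8 := by simp [InList]

variable (K) in
/-- the matrix unit -/
abbrev E (i j : Fin 5) : Matrix (Fin 5) (Fin 5) K := Matrix.single i j 1

theorem E_apply (i j a b : Fin 5) : E K i j a b = if i = a ∧ j = b then 1 else 0 := Matrix.single_apply _ _ _ _ _

theorem E_same (i j : Fin 5) : E K i j i j = 1 := Matrix.single_apply_same _ _ _

theorem E_ne {i j a b : Fin 5} (h : ¬ (i = a ∧ j = b)) : E K i j a b = 0 := by rw [E_apply, if_neg h]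

variable (K) in
/-- `E_ij` of the component `c` -/
def EV (c : Fin 2) (i j : Fin 5) : chevE8.Idx → K := ((SG c i j : ℤ) : K) • ev chevE8 K (RT c i j)

variable (K) in
/-- `E_kk - E_{k+1,k+1}` of the component `c` -/
def HV (c : Fin 2) (k : Fin 4) : chevE8.Idx → K := corv chevE8 K (RT c k.castSucc k.succ)

variable (K) in
/-- the embedding of the trace zero matrices (component `c`) -/
noncomputable def io1 (c : Fin 2) : Matrix (Fin 5) (Fin 5) K →ₗ[K] (chevE8.Idx → K) where
  toFun A := (∑ i : Fin 5, ∑ j : Fin 5, (if i = j then 0 else A i j) • EV K c i j) +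
    ∑ k : Fin 4, (∑ l : Fin 5, if l ≤ k.castSucc then A l l else 0) • HV K c k
  map_add' A B := by
    have h1 : ∀ i j : Fin 5, (if i = j then 0 else (A + B) i j) • EV K c i j =
        (if i = j then 0 else A i j) • EV K c i j + (if i = j then 0 else B i j) • EV K c i j := by
      intro i j
      split_ifs
      · simp
      · rw [Matrix.add_apply, add_smul]
    have h2 : ∀ k : Fin 4, (∑ l : Fin 5, if l ≤ k.castSucc then (A + B) l l else 0) • HV K c k =
        (∑ l : Fin 5, if l ≤ k.castSucc then A l l else 0) • HV K c k +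
        (∑ l : Fin 5, if l ≤ k.castSucc then B l l else 0) • HV K c k := by
      intro k
      rw [← add_smul, ← Finset.sum_add_distrib]
      congr 1
      refine Finset.sum_congr rfl fun l _ => ?_
      split_ifs
      · rfl
      · simp
    simp only [h1, h2, Finset.sum_add_distrib]
    abel
  map_smul' a A := by
    have h1 : ∀ i j : Fin 5, (if i = j then 0 else (a • A) i j) • EV K c i j =
        a • ((if i = j then 0 else A i j) • EV K c i j) := by
      intro i j
      split_ifs
      · simp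
      · rw [Matrix.smul_apply, smul_smul, smul_eq_mul]
    have h2 : ∀ k : Fin 4, (∑ l : Fin 5, if l ≤ k.castSucc then (a • A) l l else 0) • HV K c k =
        a • ((∑ l : Fin 5, if l ≤ k.castSucc then A l l else 0) • HV K c k) := by
      intro k
      rw [smul_smul, Finset.mul_sum]
      congr 1
      refine Finset.sum_congr rfl fun l _ => ?_
      split_ifs
      · rfl
      · simp
    simp only [h1, h2, ← Finset.smul_sum, ← smul_add, RingHom.id_apply]

theorem io1_apply (c : Fin 2) (A : Matrix (Fin 5) (Fin 5) K) :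
    io1 K c A = (∑ i : Fin 5, ∑ j : Fin 5, (if i = j then 0 else A i j) • EV K c i j) +
    ∑ k : Fin 4, (∑ l : Fin 5, if l ≤ k.castSucc then A l l else 0) • HV K c k := rfl

theorem io1_E (c : Fin 2) {i j : Fin 5} (hij : i ≠ j) : io1 K c (E K i j) = EV K c i j := by
  rw [io1_apply]
  have h2 : ∀ k : Fin 4, (∑ l : Fin 5, if l ≤ k.castSucc then (E K i j) l l else 0) = 0 := by
    intro k
    refine Finset.sum_eq_zero fun l _ => ?_
    split_ifs
    · rw [E_ne]
      rintro ⟨rfl, rfl⟩
      exact hij rfl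
    · rfl
  simp only [h2, zero_smul, Finset.sum_const_zero, add_zero]
  rw [Finset.sum_eq_single i, Finset.sum_eq_single j]
  · rw [if_neg hij, E_same, one_smul]
  · intro b _ hb
    rw [E_ne (fun h => hb h.2.symm)]
    simp
  · simp
  · intro a _ ha
    refine Finset.sum_eq_zero fun b _ => ?_
    rw [E_ne (fun h => ha h.1.symm)]
    simp
  · simp

variable (K) in
/-- `E_kk - E_{k+1,k+1}` -/
def HK (k : Fin 4) : Matrix (Fin 5) (Fin 5) K := E K k.castSucc k.castSucc - E K k.succ k.succ

theorem HK_tab : ∀ k k' : Fin 4, (∑ l : Fin 5, if l ≤ k'.castSucc then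
    ((if k.castSucc = l then 1 else 0) - (if k.succ = l then 1 else 0) : ℤ) else 0) = if k' = k then 1 else 0 := by
  decide

theorem io1_H (c : Fin 2) (k : Fin 4) : io1 K c (HK K k) = HV K c k := by
  rw [io1_apply]
  have h1 : ∀ i j : Fin 5, (if i = j then 0 else (HK K k) i j) = 0 := by
    intro i j
    split_ifs with h
    · rfl
    · rw [HK, Matrix.sub_apply, E_ne, E_ne, sub_zero]
      · rintro ⟨rfl, rfl⟩
        exact h rfl
      · rintro ⟨rfl, rfl⟩
        exact h rfl
  have h2 : ∀ k' : Fin 4, (∑ l : Fin 5, if l ≤ k'.castSucc then (HK K k) l l else 0) = if k' = k then 1 else 0 := by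
    intro k'
    have h3 : ∀ l : Fin 5, (HK K k) l l = (if k.castSucc = l then 1 else 0) - (if k.succ = l then 1 else 0) := by
      intro l
      simp only [HK, Matrix.sub_apply, E_apply, and_self_iff]
    simp only [h3]
    have h4 := congrArg (Int.cast : ℤ → K) (HK_tab k k')
    push_cast at h4
    exact h4
  simp only [h1, h2, zero_smul, Finset.sum_const_zero, zero_add, ite_smul, one_smul, Finset.sum_ite_eq',
    Finset.mem_univ, if_true]

theorem decomp (A : Matrix (Fin 5) (Fin 5) K) (hA : A.trace = 0) :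
    A = (∑ i : Fin 5, ∑ j : Fin 5, (if i = j then 0 else A i j) • E K i j) +
      ∑ k : Fin 4, (∑ l : Fin 5, if l ≤ k.castSucc then A l l else 0) • HK K k := by
  have h1 : (∑ i : Fin 5, ∑ j : Fin 5, (if i = j then 0 else A i j) • E K i j) =
      Matrix.of fun i j => if i = j then 0 else A i j := by
    conv_rhs => rw [Matrix.matrix_eq_sum_single (Matrix.of fun i j => if i = j then 0 else A i j)]
    refine Finset.sum_congr rfl fun i _ => Finset.sum_congr rfl fun j _ => ?_
    rw [Matrix.smul_single, smul_eq_mul, mul_one, Matrix.of_apply]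
  rw [h1]
  rw [Matrix.trace, Fin.sum_univ_five] at hA
  simp only [Matrix.diag_apply] at hA
  ext i j
  rw [Matrix.add_apply, Matrix.of_apply, Matrix.sum_apply]
  by_cases hij : i = j
  · subst hij
    rw [if_pos rfl, zero_add]
    simp only [Matrix.smul_apply, HK, Matrix.sub_apply, E_apply, and_self_iff, smul_eq_mul]
    fin_cases i <;> simp [Fin.sum_univ_five, Fin.sum_univ_four] <;>
      first
      | ring1
      | linear_combination hA
  · rw [if_neg hij]
    have : ∀ k : Fin 4, ((∑ l : Fin 5, if l ≤ k.castSucc then A l l else 0) • HK K k) i j = 0 := by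
      intro k
      rw [Matrix.smul_apply, HK, Matrix.sub_apply, E_ne, E_ne, sub_zero,
        smul_zero]
      · rintro ⟨rfl, rfl⟩
        exact hij rfl
      · rintro ⟨rfl, rfl⟩
        exact hij rfl
    simp only [this, Finset.sum_const_zero, add_zero]

theorem ext_tr0 {V : Type*} [AddCommGroup V] [Module K V] {L1 L2 : Matrix (Fin 5) (Fin 5) K →ₗ[K] V}
    (h1 : ∀ k l, k ≠ l → L1 (E K k l) = L2 (E K k l)) (h2 : ∀ k, L1 (HK K k) = L2 (HK K k))
    (A : Matrix (Fin 5) (Fin 5) K) (hA : A.trace = 0) : L1 A = L2 A := by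
  have key : ∀ L : Matrix (Fin 5) (Fin 5) K →ₗ[K] V, L A =
      (∑ i : Fin 5, ∑ j : Fin 5, (if i = j then 0 else A i j) • L (E K i j)) +
      ∑ k : Fin 4, (∑ l : Fin 5, if l ≤ k.castSucc then A l l else 0) • L (HK K k) := by
    intro L
    conv_lhs => rw [decomp A hA]
    simp only [map_add, map_sum, map_smul]
  rw [key L1, key L2]
  congr 1
  · refine Finset.sum_congr rfl fun i _ => Finset.sum_congr rfl fun j _ => ?_
    by_cases hij : i = j
    · rw [if_pos hij, zero_smul, zero_smul]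
    · rw [h1 i j hij]
  · refine Finset.sum_congr rfl fun k _ => ?_
    rw [h2]

/-- conjugation of a matrix unit by a transvection -/
theorem conj_single {i j : Fin 5} (hij : i ≠ j) (k l : Fin 5) (t : K) :
    transvection i j t * E K k l * transvection i j (-t) =
      E K k l + (if j = k then t else 0) • E K i l - (if l = i then t else 0) • E K k j -
        (if j = k ∧ l = i then t ^ 2 else 0) • E K i j := by
  have e1 : Matrix.single i j t * E K k l = (if j = k then t else 0) • E K i l := by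
    split_ifs with h
    · subst h
      rw [Matrix.single_mul_single_same, mul_one, Matrix.smul_single, smul_eq_mul, mul_one]
    · rw [Matrix.single_mul_single_of_ne (h := h), zero_smul]
  have e2 : ∀ (a : Fin 5), E K a l * Matrix.single i j (-t) = -((if l = i then t else 0) • E K a j) := by
    intro a
    split_ifs with h
    · subst h
      rw [Matrix.single_mul_single_same, one_mul, Matrix.smul_single, smul_eq_mul, mul_one, Matrix.single_neg]
    · rw [Matrix.single_mul_single_of_ne (h := h), zero_smul, neg_zero]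
  rw [transvection, transvection, add_mul, one_mul, mul_add, mul_one, add_mul, e2, e1, smul_mul_assoc, e2]
  by_cases h1 : j = k <;> by_cases h2 : l = i
  · simp only [h1, h2, and_self, if_true, smul_neg, smul_smul, pow_two]
    abel
  · simp only [h1, h2, and_false, if_true, if_false, zero_smul, neg_zero, smul_zero, add_zero, sub_zero]
  · simp only [h1, h2, false_and, if_true, if_false, zero_smul, add_zero, sub_zero]
    abel
  · simp only [h1, h2, false_and, if_false, zero_smul, neg_zero, smul_zero, add_zero, sub_zero]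

end Cfsg.Agent.H239.E8P
end

-- part: H239/E8P/Act
section
/-!
# S5925, box F (P7): the action of the root elements of `W₀`, `W₁` (helper239)
-/

set_option autoImplicit false
set_option linter.unusedSectionVars false

namespace Cfsg.Agent.H239.E8P

open Cfsg.Lie Cfsg.Agent.ChevalleyStructure Cfsg.Agent.ChevalleyStructure.Elts
  Cfsg.Agent.ChevalleyStructure.XColumns Cfsg.Agent.ChevalleyStructure.Strings
open Matrix Cfsg.Agent.ChevalleyStructure.StringMem

universe u

variable {K : Type u} [Field K]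

theorem ok {r : ℕ} (hr : r < 240) : RootOK chevE8 r := rootOK_of_mem hE hr

theorem SG_sq (c : Fin 2) (i j : Fin 5) : ((SG c i j : ℤ) : K) * ((SG c i j : ℤ) : K) = 1 := by
  rcases SG_one c i j with h | h <;> rw [h] <;> simp

theorem co_cof (r i : ℕ) : co chevE8 r i = cof r i := by
  rw [co, cof]

theorem pair_eq (r s : ℕ) : ∑ m ∈ Finset.range chevE8.rank, co chevE8 r m * chevE8.cartan m s = pair r s := by
  simp only [co_cof]
  show (Multiset.map (fun m => cof r m * chevE8.cartan m s) ((List.range 8 : List ℕ) : Multiset ℕ)).sum = _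
  rw [Multiset.map_coe, Multiset.sum_coe]
  rfl

/-- `x_r(t)` on a coroot -/
theorem x_cor {r : ℕ} (hr : r < 240) (t : K) (s : ℕ) :
    chevE8.x K r t *ᵥ corv chevE8 K s = corv chevE8 K s - (((pair s r : ℤ) : K) * t) • ev chevE8 K r := by
  have hr' : r < chevE8.nroots := hr
  rw [corv_eq_sum, Matrix.mulVec_sum]
  have : ∀ i ∈ Finset.range chevE8.rank, chevE8.x K r t *ᵥ ((co chevE8 s i : K) • hv chevE8 K i) =
      (co chevE8 s i : K) • hv chevE8 K i -
        ((co chevE8 s i * chevE8.cartan i r : ℤ) : K) • (t • ev chevE8 K r) := by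
    intro i hi
    rw [Matrix.mulVec_smul, x_mulVec_hv hr' (Finset.mem_range.1 hi), smul_sub, smul_smul, smul_smul]
    push_cast
    rw [mul_assoc]
  rw [Finset.sum_congr rfl this, Finset.sum_sub_distrib, ← Finset.sum_smul, ← Int.cast_sum]
  have h2 : (∑ i ∈ Finset.range chevE8.rank, co chevE8 s i * chevE8.cartan i r) = pair s r := pair_eq s r
  rw [h2, smul_smul]

theorem diag_tab : ∀ (i j : Fin 5) (k : Fin 4), (∑ l : Fin 5, if l ≤ k.castSucc then
    ((if i = l then 1 else 0) - (if j = l then 1 else 0) : ℤ) else 0) =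
      (if i ≤ k.castSucc then 1 else 0) - (if j ≤ k.castSucc then 1 else 0) := by
  decide

theorem io1_diag (c : Fin 2) (i j : Fin 5) : io1 K c (E K i i - E K j j) =
    ∑ k : Fin 4, ((((if i ≤ k.castSucc then 1 else 0) - (if j ≤ k.castSucc then 1 else 0) : ℤ)) : K) • HV K c k := by
  rw [io1_apply]
  have h1 : ∀ a b : Fin 5, (if a = b then 0 else (E K i i - E K j j) a b) = 0 := by
    intro a b
    split_ifs with h
    · rfl
    · rw [Matrix.sub_apply, E_ne, E_ne, sub_zero]
      · rintro ⟨rfl, rfl⟩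
        exact h rfl
      · rintro ⟨rfl, rfl⟩
        exact h rfl
  simp only [h1, zero_smul, Finset.sum_const_zero, zero_add]
  refine Finset.sum_congr rfl fun k _ => ?_
  congr 1
  have h4 := congrArg (Int.cast : ℤ → K) (diag_tab i j k)
  rw [← h4]
  push_cast
  refine Finset.sum_congr rfl fun l _ => ?_
  simp only [Matrix.sub_apply, E_apply, and_self_iff]

theorem corv_RT (c : Fin 2) {i j : Fin 5} (hij : i ≠ j) :
    corv chevE8 K (RT c i j) = io1 K c (E K i i - E K j j) := by
  rw [io1_diag]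
  funext a
  rw [Finset.sum_apply]
  rcases a with m | v
  · have h := cof_tab c i j hij m.val m.isLt
    rw [← Fin.sum_univ_def] at h
    have h2 := congrArg (Int.cast : ℤ → K) h
    rw [corv_inl]
    refine Eq.trans h2 ?_
    rw [Int.cast_sum]
    refine Finset.sum_congr rfl fun k _ => ?_
    rw [Int.cast_mul, Pi.smul_apply, smul_eq_mul, HV, corv_inl]
    rfl
  · simp only [corv_inr, Pi.smul_apply, HV, smul_zero, Finset.sum_const_zero]

theorem sum_one (u : ℕ) (N : ℤ) (t : K) :
    (([(u, N)] : List (ℕ × ℤ)).zipIdx.map fun q => ((q.1.2 : K) * t ^ (q.2 + 1)) • ev chevE8 K q.1.1).sum =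
      ((N : K) * t) • ev chevE8 K u := by
  simp

theorem x_EV (c : Fin 2) {i j : Fin 5} (hij : i ≠ j) (t : K) (c' : Fin 2) {k l : Fin 5} (hkl : k ≠ l) :
    chevE8.x K (RT c i j) (((SG c i j : ℤ) : K) * t) *ᵥ EV K c' k l =
      io1 K c' (if c = c' then transvection i j t * E K k l * transvection i j (-t) else E K k l) := by
  have hr := RT_lt c i j hij
  have hs := RT_lt c' k l hkl
  have hok := ok hr
  rw [conj_single hij, EV, Matrix.mulVec_smul]
  by_cases hA : c = c' ∧ i = k ∧ j = l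
  · obtain ⟨rfl, rfl, rfl⟩ := hA
    rw [x_mulVec_ev_self hr, if_pos rfl, if_neg (Ne.symm hij), if_neg (fun h => hij h.1.symm),
      zero_smul, add_zero, sub_zero, sub_zero, io1_E _ hij, EV]
  by_cases hB : c = c' ∧ j = k ∧ i = l
  · obtain ⟨rfl, rfl, rfl⟩ := hB
    rw [← RT_neg c i j hij, x_ev_neg hok, RT_neg c i j hij, if_pos rfl, if_pos rfl, if_pos rfl, if_pos ⟨rfl, rfl⟩,
      corv_RT c hij]
    simp only [map_sub, map_add, map_smul]
    rw [io1_E _ hij, io1_E _ hkl, EV, EV, SG_symm c i j]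
    have h1 := SG_sq (K := K) c i j
    match_scalars
    · ring
    · linear_combination t * h1
    · linear_combination -t * h1
    · linear_combination (-t ^ 2 * ((SG c i j : ℤ) : K)) * h1
  have hne : RT c' k l ≠ RT c i j := by
    intro h
    obtain ⟨e1, e2, e3⟩ := RT_inj _ _ _ hkl _ _ _ hij h
    exact hA ⟨e1.symm, e2.symm, e3.symm⟩
  have hne' : RT c' k l ≠ chevE8.neg (RT c i j) := by
    rw [RT_neg c i j hij]
    intro h
    obtain ⟨e1, e2, e3⟩ := RT_inj _ _ _ hkl _ _ _ hij.symm h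
    exact hB ⟨e1.symm, e2.symm, e3.symm⟩
  rw [x_mulVec_ev hr hs hne hne' hok.nodup, chain_tab c i j hij c' k l hkl, tgt]
  by_cases hc : c = c'
  · subst hc
    rw [if_pos rfl]
    by_cases h1 : j = k
    · subst h1
      have h2 : i ≠ l := fun h => hB ⟨rfl, rfl, h⟩
      rw [if_pos ⟨rfl, rfl, h2⟩, sum_one, if_pos rfl, if_neg (Ne.symm h2), if_neg (fun h => h2 h.2.symm), zero_smul,
        zero_smul, sub_zero, sub_zero, map_add, map_smul, io1_E _ hkl, io1_E _ h2, EV, EV]
      have q1 := SG_sq (K := K) c i j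
      have q2 := SG_sq (K := K) c j l
      push_cast
      match_scalars
      · ring
      · linear_combination (t * ((SG c i l : ℤ) : K) * ((SG c j l : ℤ) : K) * ((SG c j l : ℤ) : K)) * q1 +
          (t * ((SG c i l : ℤ) : K)) * q2
    · rw [if_neg (fun h => h1 h.2.1)]
      by_cases h2 : i = l
      · subst h2
        rw [if_pos ⟨rfl, rfl, h1⟩, sum_one, if_neg h1, if_pos rfl, if_neg (fun h => h1 h.1), zero_smul, zero_smul,
          sub_zero, add_zero, map_sub, map_smul, io1_E _ hkl, io1_E _ (Ne.symm h1), EV, EV]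
        have q1 := SG_sq (K := K) c i j
        have q2 := SG_sq (K := K) c k i
        push_cast
        match_scalars
        · ring
        · linear_combination -(t * ((SG c k j : ℤ) : K) * ((SG c k i : ℤ) : K) * ((SG c k i : ℤ) : K)) * q1 -
            (t * ((SG c k j : ℤ) : K)) * q2
      · rw [if_neg (fun h => h2 h.2.1), if_neg h1, if_neg (Ne.symm h2), if_neg (fun h => h1 h.1), zero_smul,
          zero_smul, zero_smul, add_zero, sub_zero, sub_zero, io1_E _ hkl, EV]
        simp
  · rw [if_neg (fun h => hc h.1), if_neg (fun h => hc h.1), if_neg hc, io1_E _ hkl, EV]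
    simp

theorem x_HV (c : Fin 2) {i j : Fin 5} (hij : i ≠ j) (t : K) (c' : Fin 2) (k : Fin 4) :
    chevE8.x K (RT c i j) (((SG c i j : ℤ) : K) * t) *ᵥ HV K c' k =
      io1 K c' (if c = c' then transvection i j t * HK K k * transvection i j (-t) else HK K k) := by
  have hr := RT_lt c i j hij
  rw [HV, x_cor hr, pair_tab c' k c i j hij]
  by_cases hc : c = c'
  · subst hc
    rw [if_pos rfl, if_pos rfl]
    have h1 : transvection i j t * HK K k * transvection i j (-t) =
        HK K k - (((if k.castSucc = i then 1 else 0) - (if k.castSucc = j then 1 else 0) -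
        (if k.succ = i then 1 else 0) + (if k.succ = j then 1 else 0) : ℤ) * t) • E K i j := by
      have hk : k.castSucc ≠ k.succ := (Fin.castSucc_lt_succ).ne
      rw [HK, mul_sub, sub_mul, conj_single hij, conj_single hij]
      have e1 : ∀ a : Fin 5, (if j = a then t else 0) • E K i a = ((if a = j then 1 else 0) * t) • E K i j := by
        intro a
        by_cases h : a = j
        · rw [h, if_pos rfl, if_pos rfl, one_mul]
        · rw [if_neg h, if_neg (Ne.symm h), zero_mul, zero_smul, zero_smul]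
      have e2 : ∀ a : Fin 5, (if a = i then t else 0) • E K a j = ((if a = i then 1 else 0) * t) • E K i j := by
        intro a
        by_cases h : a = i
        · rw [h, if_pos rfl, if_pos rfl, one_mul]
        · rw [if_neg h, if_neg h, zero_mul, zero_smul, zero_smul]
      have e3 : ∀ a : Fin 5, (if j = a ∧ a = i then t ^ 2 else 0) • E K i j = 0 := by
        intro a
        rw [if_neg (fun h => hij (h.1.trans h.2).symm), zero_smul]
      rw [e1, e1, e2, e2, e3, e3]
      push_cast
      module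
    rw [h1, map_sub, map_smul, io1_H, io1_E _ hij, HV, EV, smul_smul]
    congr 2
    push_cast
    ring
  · rw [if_neg (Ne.symm hc), if_neg hc, io1_H, Int.cast_zero, zero_mul, zero_smul, sub_zero, HV]

/-- the root elements of the table act by transvections -/
theorem x_io1 (c : Fin 2) {i j : Fin 5} (hij : i ≠ j) (t : K) (c' : Fin 2) (A : Matrix (Fin 5) (Fin 5) K)
    (hA : A.trace = 0) :
    chevE8.x K (RT c i j) (((SG c i j : ℤ) : K) * t) *ᵥ io1 K c' A =
      io1 K c' (if c = c' then transvection i j t * A * transvection i j (-t) else A) := by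
  by_cases hc : c = c'
  · have h := ext_tr0 (L1 := (Matrix.mulVecLin (chevE8.x K (RT c i j) (((SG c i j : ℤ) : K) * t))) ∘ₗ io1 K c')
      (L2 := io1 K c' ∘ₗ (LinearMap.mulRight K (transvection i j (-t)) ∘ₗ LinearMap.mulLeft K (transvection i j t)))
      (fun k l hkl => ?_) (fun k => ?_) A hA
    · rw [if_pos hc]
      exact h
    · have h2 := x_EV c hij t c' hkl
      rw [if_pos hc] at h2
      show _ *ᵥ io1 K c' (E K k l) = _
      rw [io1_E _ hkl]
      exact h2
    · have h2 := x_HV c hij t c' k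
      rw [if_pos hc] at h2
      show _ *ᵥ io1 K c' (HK K k) = _
      rw [io1_H]
      exact h2
  · have h := ext_tr0 (L1 := (Matrix.mulVecLin (chevE8.x K (RT c i j) (((SG c i j : ℤ) : K) * t))) ∘ₗ io1 K c')
      (L2 := io1 K c')
      (fun k l hkl => ?_) (fun k => ?_) A hA
    · rw [if_neg hc]
      exact h
    · have h2 := x_EV c hij t c' hkl
      rw [if_neg hc] at h2
      show _ *ᵥ io1 K c' (E K k l) = _
      rw [io1_E _ hkl, h2, io1_E _ hkl]
    · have h2 := x_HV c hij t c' k
      rw [if_neg hc] at h2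
      show _ *ᵥ io1 K c' (HK K k) = _
      rw [io1_H, h2, io1_H]

/-! ### Groups acting by conjugations -/

/-- `g` acts on the two copies of `sl₅` as the conjugations by `P c` (with inverse `P' c`) -/
structure Acts (g : GL chevE8.Idx K) (P P' : Fin 2 → Matrix (Fin 5) (Fin 5) K) : Prop where
  mi : ∀ c, P c * P' c = 1
  im : ∀ c, P' c * P c = 1
  act : ∀ c (A : Matrix (Fin 5) (Fin 5) K), A.trace = 0 →
    (g : Matrix chevE8.Idx chevE8.Idx K) *ᵥ io1 K c A = io1 K c (P c * A * P' c)

theorem trace_conj {P P' : Matrix (Fin 5) (Fin 5) K} (h : P' * P = 1) (A : Matrix (Fin 5) (Fin 5) K) :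
    (P * A * P').trace = A.trace := by
  rw [Matrix.trace_mul_comm, ← mul_assoc, h, one_mul]

theorem Acts.one : Acts (1 : GL chevE8.Idx K) (fun _ => 1) (fun _ => 1) where
  mi _ := one_mul _
  im _ := one_mul _
  act c A _ := by rw [Units.val_one, Matrix.one_mulVec, one_mul, mul_one]

theorem Acts.mul {g g' : GL chevE8.Idx K} {P P' Q Q' : Fin 2 → Matrix (Fin 5) (Fin 5) K} (h : Acts g P P')
    (h' : Acts g' Q Q') : Acts (g * g') (fun c => P c * Q c) (fun c => Q' c * P' c) where
  mi c := by rw [mul_assoc, ← mul_assoc (Q c), h'.mi, one_mul, h.mi]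
  im c := by rw [mul_assoc, ← mul_assoc (P' c), h.im, one_mul, h'.im]
  act c A hA := by
    rw [Units.val_mul, ← Matrix.mulVec_mulVec, h'.act c A hA, h.act c _ (by rw [trace_conj (h'.im c), hA])]
    simp only [mul_assoc]

theorem Acts.inv {g : GL chevE8.Idx K} {P P' : Fin 2 → Matrix (Fin 5) (Fin 5) K} (h : Acts g P P') :
    Acts g⁻¹ P' P where
  mi c := h.im c
  im c := h.mi c
  act c A hA := by
    have h1 := h.act c (P' c * A * P c) (by rw [trace_conj (h.mi c), hA])
    have h2 : P c * (P' c * A * P c) * P' c = A := by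
      simp only [mul_assoc, h.mi, mul_one]
      rw [← mul_assoc, h.mi, one_mul]
    rw [h2] at h1
    rw [← h1, Matrix.mulVec_mulVec, ← Units.val_mul, inv_mul_cancel, Units.val_one, Matrix.one_mulVec]

theorem acts_xG (c : Fin 2) {i j : Fin 5} (hij : i ≠ j) (t : K) :
    ∃ P P', Acts (xG hE (RT c i j) t) P P' := by
  refine ⟨fun c' => if c = c' then transvection i j (((SG c i j : ℤ) : K) * t) else 1,
    fun c' => if c = c' then transvection i j (-(((SG c i j : ℤ) : K) * t)) else 1, fun c' => ?_, fun c' => ?_,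
    fun c' A hA => ?_⟩
  · by_cases hc : c = c'
    · simp only [if_pos hc]
      rw [Matrix.transvection_mul_transvection_same _ _ hij, add_neg_cancel, Matrix.transvection_zero]
    · simp only [if_neg hc, one_mul]
  · by_cases hc : c = c'
    · simp only [if_pos hc]
      rw [Matrix.transvection_mul_transvection_same _ _ hij, neg_add_cancel, Matrix.transvection_zero]
    · simp only [if_neg hc, one_mul]
  · have h := x_io1 c hij (((SG c i j : ℤ) : K) * t) c' A hA
    rw [← mul_assoc, SG_sq, one_mul] at h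
    rw [coe_xG, h]
    by_cases hc : c = c'
    · simp only [if_pos hc]
    · simp only [if_neg hc, one_mul, mul_one]

theorem acts_closure {s : Set (GL chevE8.Idx K)} (hs : ∀ g ∈ s, ∃ P P', Acts g P P') {g : GL chevE8.Idx K}
    (hg : g ∈ Subgroup.closure s) : ∃ P P', Acts g P P' := by
  induction hg using Subgroup.closure_induction with
  | mem x hx => exact hs x hx
  | one => exact ⟨_, _, Acts.one⟩
  | mul a b _ _ ha hb =>
    obtain ⟨P, P', h⟩ := ha
    obtain ⟨Q, Q', h'⟩ := hb
    exact ⟨_, _, h.mul h'⟩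
  | inv a _ ha =>
    obtain ⟨P, P', h⟩ := ha
    exact ⟨_, _, h.inv⟩

end Cfsg.Agent.H239.E8P
end

private theorem dce_1682f112a32a : _root_.True := by
  try have : _root_.True := by simp only [_root_.Cfsg.Agent.H239.E8P.HV.eq_1]
  try have : _root_.True := by simp only [_root_.Cfsg.Agent.H239.E8P.tgt.eq_1]
  try have : _root_.True := by simp only [_root_.Cfsg.Agent.H239.E8P.cof.eq_1]
  try have : _root_.True := by simp only [_root_.Cfsg.Agent.H239.E8P.EV.eq_1]
  try have : _root_.True := by simp only [_root_.Cfsg.Agent.H239.E8P.HK.eq_1]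
  exact _root_.True.intro
end

-- part: H239/E8P/Tor
section
set_option linter.all false
open scoped Cfsg.Agent.FastGrp

/-!
# S5925, box F (P7): the torus on the two copies of `sl₅` (helper239)
-/

set_option autoImplicit false
set_option linter.unusedSectionVars false

namespace Cfsg.Agent.H239.E8P

open Cfsg.Lie Cfsg.Agent.ChevalleyStructure Cfsg.Agent.ChevalleyStructure.Elts
  Cfsg.Agent.ChevalleyStructure.XColumns Cfsg.Agent.ChevalleyStructure.Strings
open Cfsg.Agent.H610.ChevRegular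
open Matrix

universe u

variable {K : Type u} [Field K]

/-- multiplicative functions on the pairs `i ≠ j` -/
theorem exists_d (γ : Fin 5 → Fin 5 → K) (hne : ∀ i j, i ≠ j → γ i j ≠ 0)
    (hmul : ∀ i j l, i ≠ j → j ≠ l → i ≠ l → γ i j * γ j l = γ i l) :
    ∃ d : Fin 5 → K, (∀ i, d i ≠ 0) ∧ ∀ i j, i ≠ j → γ i j * d j = d i := by
  have h3 : ∀ i j : Fin 5, ∃ l : Fin 5, l ≠ i ∧ l ≠ j := by decide
  have hinv : ∀ i j, i ≠ j → γ i j * γ j i = 1 := by
    intro i j hij
    obtain ⟨l, hl, hl'⟩ := h3 i j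
    have h1 := hmul j i l hij.symm hl.symm hl'.symm
    have h2 := hmul i j l hij hl'.symm hl.symm
    rw [← h1, ← mul_assoc] at h2
    exact mul_right_cancel₀ (hne i l hl.symm) (by rw [h2, one_mul])
  refine ⟨fun i => if i = 0 then 1 else γ i 0, fun i => ?_, fun i j hij => ?_⟩
  · show (if i = 0 then 1 else γ i 0) ≠ 0
    split_ifs with h
    · exact one_ne_zero
    · exact hne i 0 h
  · show γ i j * (if j = 0 then 1 else γ j 0) = if i = 0 then 1 else γ i 0
    by_cases hj : j = 0
    · subst hj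
      rw [if_pos rfl, mul_one, if_neg hij]
    · rw [if_neg hj]
      by_cases hi : i = 0
      · subst hi
        rw [if_pos rfl]
        exact hinv 0 j hij
      · rw [if_neg hi]
        exact hmul i j 0 hij hj hi

set_option maxRecDepth 100000 in
theorem rt_tab : ∀ (c : Fin 2) (i j l : Fin 5), i ≠ j → j ≠ l → i ≠ l → ∀ m < 8,
    RootVec.rt chevE8 (RT c i l) m = RootVec.rt chevE8 (RT c i j) m + RootVec.rt chevE8 (RT c j l) m := by
  decide +kernel

theorem chi_mul {h : GL chevE8.Idx K} {χ : ℕ → K} (hχ : Chi hE h χ) (c : Fin 2) (i j l : Fin 5) (hij : i ≠ j)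
    (hjl : j ≠ l) (hil : i ≠ l) : χ (RT c i j) * χ (RT c j l) = χ (RT c i l) := by
  have h1 := hχ.prod _ (RT_lt c i j hij)
  have h2 := hχ.prod _ (RT_lt c j l hjl)
  have h3 := hχ.prod _ (RT_lt c i l hil)
  rw [h1, h2, h3, ← Finset.prod_mul_distrib]
  refine Finset.prod_congr rfl fun m hm => ?_
  rw [rt_tab c i j l hij hjl hil m (Finset.mem_range.1 hm), zpow_add₀ (hχ.ne _)]

/-- the torus acts by diagonal matrices -/
theorem acts_diag {h : GL chevE8.Idx K} (hh : h ∈ chevE8.diagonalSubgroup K) : ∃ P P', Acts h P P' := by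
  obtain ⟨χ, hχ⟩ := exists_chi hE hh
  have hM := mono_diag hE hχ
  choose d hd0 hd using fun c : Fin 2 => exists_d (fun i j => χ (RT c i j)) (fun i j _ => hχ.ne _)
    (fun i j l h1 h2 h3 => chi_mul hχ c i j l h1 h2 h3)
  refine ⟨fun c => Matrix.diagonal (d c), fun c => Matrix.diagonal fun i => (d c i)⁻¹, fun c => ?_, fun c => ?_,
    fun c A hA => ?_⟩
  · rw [Matrix.diagonal_mul_diagonal, ← Matrix.diagonal_one]
    congr 1
    funext i
    exact mul_inv_cancel₀ (hd0 c i)
  · rw [Matrix.diagonal_mul_diagonal, ← Matrix.diagonal_one]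
    congr 1
    funext i
    exact inv_mul_cancel₀ (hd0 c i)
  · have key : ∀ k l : Fin 5, Matrix.diagonal (d c) * E K k l * Matrix.diagonal (fun i => (d c i)⁻¹) =
        (d c k * (d c l)⁻¹) • E K k l := by
      intro k l
      ext a b
      rw [Matrix.mul_diagonal, Matrix.diagonal_mul, Matrix.smul_apply, smul_eq_mul, E_apply]
      split_ifs with hab
      · rw [hab.1, hab.2]
        ring
      · ring
    refine ext_tr0 (L1 := (Matrix.mulVecLin (h : Matrix chevE8.Idx chevE8.Idx K)) ∘ₗ io1 K c)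
      (L2 := io1 K c ∘ₗ (LinearMap.mulRight K (Matrix.diagonal fun i => (d c i)⁻¹) ∘ₗ
        LinearMap.mulLeft K (Matrix.diagonal (d c)))) (fun k l hkl => ?_) (fun k => ?_) A hA
    · show _ *ᵥ io1 K c (E K k l) = io1 K c (Matrix.diagonal (d c) * E K k l * Matrix.diagonal fun i => (d c i)⁻¹)
      rw [key, map_smul, io1_E _ hkl, EV, Matrix.mulVec_smul, hM.evm _ (RT_lt c k l hkl), smul_smul, smul_smul,
        mul_comm, ← hd c k l hkl, mul_assoc (χ _), mul_inv_cancel₀ (hd0 c l), mul_one]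
    · show _ *ᵥ io1 K c (HK K k) = io1 K c (Matrix.diagonal (d c) * HK K k * Matrix.diagonal fun i => (d c i)⁻¹)
      have h1 : Matrix.diagonal (d c) * HK K k * Matrix.diagonal (fun i => (d c i)⁻¹) = HK K k := by
        rw [HK, mul_sub, sub_mul, key, key, mul_inv_cancel₀ (hd0 c _), mul_inv_cancel₀ (hd0 c _), one_smul, one_smul]
      rw [h1, io1_H, HV, hM.corvm _ (RT_lt c _ _ (Fin.castSucc_lt_succ).ne)]

end Cfsg.Agent.H239.E8P
end
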